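import Cfsg.Agent.H6.Chain

set_option autoImplicit false
set_option maxRecDepth 100000
set_option Elab.async false

namespace Cfsg.H6.Sp44

noncomputable def get (y : ℕ) : ℕ := (sel (nat_lit 1) y (nat_lit 0x3a6c0e3f413e400a530c3e3e3f3d44730a3d3d3d3e6f1c753c3c383c6629533b363b37533349353a363a492b15393539391e3a6b38333c341b1a5a3732343b5e1e4d313b3a324d1d183a39313575256234303738212c742f3833301827522d372e36570d1b3631352d6b396a2b342c33260f6f332f2f2b583859292c322a153b1e322d2931542e61272e3028741f66302b272f5a225f26282a2e5120212e252d26622f68232a242c4e125e2c222b235236252a2126294c102622292521253572202428246a2d58281f20274a07572527221f5930291f261e25292354241d232061215121231c2212142d1c1e211b2d134e1d201a1d0f094c1e1a1f195f3131191b181e0d054a1a1c1d17683c481b17161c48343516151b187232461719141a46264518131916452439121815150b1643141017114315420f161013420b12150f1212313741110e1114090c400d14130e40060f13120d0f35283f0b110c1007010d100d0f0b08183e090c0e0a39170b0e0b090d412a3d080a0a0c0608090c070b083f19080a060809050207070907063e0e0606080507000305050506043d1b040404030504110303020403030a0201030202020400020101010100010000000000)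 (sel (nat_lit 2) y (nat_lit 0x85827f7f77788338427e82837e777e4c84777d768223807974767c73275a5b7281717b7d6f6c7a70818028787c6f807970846b78786e7f78837c777d7f6d7e2071806d7c7d6c79703c6e756b751f5c337c6b746a6d52706a6c697c2243247b72687264856068677b69765773667a67792a462f796f6f6680596e7578656e1d456d7665776477757a647363761c47386574756265403073626174637967616073715d7d28715f72615c6e695e7170607c5d2b70665e6f1a3e656b6d6e5d7f87646c5d5c6d304a815c5b6c636e54345d6a5a6b5b552c69596a686c867158695b67565b2a57685f5955482767576658787e5d6264566534765c6355645c2c5e7b5463605b197a3756526253607f2e5161525f7372236051545e4f3f225f5e57511761565a4f5d503760554e5c4f552e64205b4e5854704e3b504d535a1663324c5a594d69621f59584c577a8350534b505614494f4a56554b324b1d55544a4e6766364853495213411c524a514881654b4650474f103d1a4f4c4e4650773a45494d497184194d46454c11694743474b447b7b174b48434a4b6a16494248453b6d44414444470e501447404641474d1342454042368111443f41430c44104043423f00) (nat_lit 0x865187878787852f56828686868487748585858387825f7d848480863c5883837e857f3367867e82827d2b6863817b7a81244f768079847a00)))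

noncomputable def row (p : ℕ) : ℕ :=
  Nat.land (Nat.shiftRight (@Nat.rec (fun _ => ℕ) (nat_lit 0) (fun y _ => get y)
    (Nat.add (Nat.shiftRight p (nat_lit 6)) (nat_lit 1)))
    (Nat.mul (Nat.land p (nat_lit 63)) (nat_lit 56))) (nat_lit 18446744073709551615)

noncomputable def img (x p : ℕ) : ℕ :=
  Nat.land (Nat.shiftRight (row p) (Nat.mul x (nat_lit 8))) (nat_lit 255)

def LS : List ℕ := [nat_lit 1, nat_lit 2, nat_lit 3, nat_lit 4, nat_lit 5, nat_lit 6, nat_lit 7]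

def EQS : List (List ℕ × List ℕ) := [([nat_lit 1, nat_lit 1], []), ([nat_lit 2, nat_lit 2], []), ([nat_lit 3, nat_lit 3], []), ([nat_lit 4, nat_lit 4], []), ([nat_lit 5, nat_lit 5], []), ([nat_lit 1, nat_lit 2, nat_lit 1, nat_lit 2, nat_lit 1], [nat_lit 2, nat_lit 1, nat_lit 2, nat_lit 1, nat_lit 2]), ([nat_lit 1, nat_lit 3], [nat_lit 3, nat_lit 1]), ([nat_lit 1, nat_lit 4], [nat_lit 4, nat_lit 1]), ([nat_lit 1, nat_lit 5], [nat_lit 5, nat_lit 1]), ([nat_lit 2, nat_lit 3, nat_lit 2], [nat_lit 3, nat_lit 2, nat_lit 3]), ([nat_lit 2, nat_lit 4], [nat_lit 4, nat_lit 2]), ([nat_lit 2, nat_lit 5], [nat_lit 5, nat_lit 2]), ([nat_lit 3, nat_lit 4, nat_lit 3], [nat_lit 4, nat_lit 3, nat_lit 4]), ([nat_lit 3, nat_lit 5], [nat_lit 5, nat_lit 3]), ([nat_lit 4, nat_lit 5, nat_lit 4], [nat_lit 5, nat_lit 4, nat_lit 5]), ([nat_lit 6], [nat_lit 1, nat_lit 2, nat_lit 3, nat_lit 4, nat_lit 1, nat_lit 2, nat_lit 3, nat_lit 4, nat_lit 1, nat_lit 2,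 nat_lit 3, nat_lit 4]), ([nat_lit 6, nat_lit 6, nat_lit 6, nat_lit 6, nat_lit 6], []), ([nat_lit 7], [nat_lit 1, nat_lit 2, nat_lit 3, nat_lit 4, nat_lit 5]), ([nat_lit 7, nat_lit 7, nat_lit 7, nat_lit 7, nat_lit 7, nat_lit 7, nat_lit 7, nat_lit 7, nat_lit 7, nat_lit 7, nat_lit 7, nat_lit 7, nat_lit 7, nat_lit 7, nat_lit 7, nat_lit 7, nat_lit 7], [])]

def D : List (ℕ × List ℕ) := [(6, [1,2,3,4,1,2,3,4,1,2,3,4]), (7, [1,2,3,4,5])]

noncomputable def ptU (img : ℕ → ℕ → ℕ) (p : ℕ) : Bool := Nat.beq (Nat.lor (Nat.xor (img (nat_lit 1) (img (nat_lit 1) p)) p)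
  (Nat.lor (Nat.xor (img (nat_lit 2) (img (nat_lit 2) p)) p)
  (Nat.lor (Nat.xor (img (nat_lit 3) (img (nat_lit 3) p)) p)
  (Nat.lor (Nat.xor (img (nat_lit 4) (img (nat_lit 4) p)) p)
  (Nat.lor (Nat.xor (img (nat_lit 5) (img (nat_lit 5) p)) p)
  (Nat.lor (Nat.xor (img (nat_lit 1) (img (nat_lit 2) (img (nat_lit 1) (img (nat_lit 2) (img (nat_lit 1) p))))) (img (nat_lit 2) (img (nat_lit 1) (img (nat_lit 2) (img (nat_lit 1) (img (nat_lit 2) p))))))
  (Nat.lor (Nat.xor (img (nat_lit 3) (img (nat_lit 1) p)) (img (nat_lit 1) (img (nat_lit 3) p)))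
  (Nat.lor (Nat.xor (img (nat_lit 4) (img (nat_lit 1) p)) (img (nat_lit 1) (img (nat_lit 4) p)))
  (Nat.lor (Nat.xor (img (nat_lit 5) (img (nat_lit 1) p)) (img (nat_lit 1) (img (nat_lit 5) p)))
  (Nat.lor (Nat.xor (img (nat_lit 2) (img (nat_lit 3) (img (nat_lit 2) p))) (img (nat_lit 3) (img (nat_lit 2) (img (nat_lit 3) p))))
  (Nat.lor (Nat.xor (img (nat_lit 4) (img (nat_lit 2) p)) (img (nat_lit 2) (img (nat_lit 4) p)))
  (Nat.lor (Nat.xor (img (nat_lit 5) (img (nat_lit 2) p)) (img (nat_lit 2) (img (nat_lit 5) p)))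
  (Nat.lor (Nat.xor (img (nat_lit 3) (img (nat_lit 4) (img (nat_lit 3) p))) (img (nat_lit 4) (img (nat_lit 3) (img (nat_lit 4) p))))
  (Nat.lor (Nat.xor (img (nat_lit 5) (img (nat_lit 3) p)) (img (nat_lit 3) (img (nat_lit 5) p)))
  (Nat.lor (Nat.xor (img (nat_lit 4) (img (nat_lit 5) (img (nat_lit 4) p))) (img (nat_lit 5) (img (nat_lit 4) (img (nat_lit 5) p))))
  (Nat.lor (Nat.xor (img (nat_lit 6) p) (img (nat_lit 4) (img (nat_lit 3) (img (nat_lit 2) (img (nat_lit 1) (img (nat_lit 4) (img (nat_lit 3) (img (nat_lit 2) (img (nat_lit 1) (img (nat_lit 4) (img (nat_lit 3) (img (nat_lit 2) (img (nat_lit 1) p)))))))))))))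
  (Nat.lor (Nat.xor (img (nat_lit 6) (img (nat_lit 6) (img (nat_lit 6) (img (nat_lit 6) (img (nat_lit 6) p))))) p)
  (Nat.lor (Nat.xor (img (nat_lit 7) p) (img (nat_lit 5) (img (nat_lit 4) (img (nat_lit 3) (img (nat_lit 2) (img (nat_lit 1) p))))))
  (Nat.lor (Nat.xor (img (nat_lit 7) (img (nat_lit 7) (img (nat_lit 7) (img (nat_lit 7) (img (nat_lit 7) (img (nat_lit 7) (img (nat_lit 7) (img (nat_lit 7) (img (nat_lit 7) (img (nat_lit 7) (img (nat_lit 7) (img (nat_lit 7) (img (nat_lit 7) (img (nat_lit 7) (img (nat_lit 7) (img (nat_lit 7) (img (nat_lit 7) p))))))))))))))))) p)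
  (Nat.lor (Nat.div (img (nat_lit 1) p) (nat_lit 136)) (Nat.lor (Nat.div (img (nat_lit 2) p) (nat_lit 136)) (Nat.lor (Nat.div (img (nat_lit 3) p) (nat_lit 136)) (Nat.lor (Nat.div (img (nat_lit 4) p) (nat_lit 136)) (Nat.lor (Nat.div (img (nat_lit 5) p) (nat_lit 136)) (Nat.lor (Nat.div (img (nat_lit 6) p) (nat_lit 136)) (Nat.lor (Nat.div (img (nat_lit 7) p) (nat_lit 136)) (nat_lit 0))))))))))))))))))))))))))) (nat_lit 0)

theorem ptU_eq (img : ℕ → ℕ → ℕ) (p : ℕ) : ptU img p = chkPt img (nat_lit 136) LS EQS p := rfl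

def Ws : List (List ℕ) := [[nat_lit 1], [nat_lit 2], [nat_lit 3], [nat_lit 4]]

end Cfsg.H6.Sp44
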